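import Mathlib

/-!
Characters of the additive group in characteristic `p` and truncated exponentials.
-/

universe u

namespace Groth.Agent.GaD36

open Finset Polynomial

variable {p : ℕ} [hp : Fact p.Prime] {A : Type u} [CommRing A] [CharP A p]

theorem isUnit_fact {j : ℕ} (hj : j < p) : IsUnit (j.factorial : A) :=
  (CharP.isUnit_natCast_iff hp.out).2 fun h => absurd (hp.out.dvd_factorial.1 h) (not_le.2 hj)

theorem choose_pow_block (n a b : ℕ) {r s : ℕ} (hr : r < p ^ n) (hs : s < p ^ n) :
    (a * p ^ n + r).choose (b * p ^ n + s) ≡ a.choose b * r.choose s [MOD p] := by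
  induction n generalizing r s with
  | zero =>
    simp only [pow_zero, Nat.lt_one_iff] at hr hs
    subst hr hs
    simp; rfl
  | succ n ih =>
    have h2 := hp.out.pos
    have e1 : ∀ x y : ℕ, (x * p ^ (n + 1) + y) % p = y % p := fun x y => by
      rw [pow_succ, ← mul_assoc, mul_comm _ p, add_comm, Nat.add_mul_mod_self_left]
    have e2 : ∀ x y : ℕ, (x * p ^ (n + 1) + y) / p = x * p ^ n + y / p := fun x y => by
      rw [pow_succ, ← mul_assoc, mul_comm _ p, Nat.mul_add_div h2]
    have hr' : r / p < p ^ n := Nat.div_lt_of_lt_mul (by rwa [← pow_succ'])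
    have hs' : s / p < p ^ n := Nat.div_lt_of_lt_mul (by rwa [← pow_succ'])
    refine (Choose.choose_modEq_choose_mod_mul_choose_div_nat (p := p)).trans ?_
    rw [e1, e1, e2, e2]
    refine ((ih hr' hs').mul_left _).trans ?_
    rw [show (r % p).choose (s % p) * (a.choose b * (r / p).choose (s / p)) =
      a.choose b * ((r % p).choose (s % p) * (r / p).choose (s / p)) by ring]
    exact ((Choose.choose_modEq_choose_mod_mul_choose_div_nat (p := p) (n := r) (k := s)).symm).mul_left _

theorem cast_choose_block (n a b : ℕ) {r s : ℕ} (hr : r < p ^ n) (hs : s < p ^ n) :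
    (((a * p ^ n + r).choose (b * p ^ n + s) : ℕ) : A) = (a.choose b : A) * (r.choose s : A) := by
  rw [← Nat.cast_mul]
  exact (CharP.natCast_eq_natCast A p).2 (choose_pow_block n a b hr hs)

/-- `f` is a character of the additive group. -/
def IsChar (f : A[X]) : Prop :=
  f.eval 0 = 1 ∧
    aeval (MvPolynomial.X 0 + MvPolynomial.X 1 : MvPolynomial (Fin 2) A) f =
      aeval (MvPolynomial.X 0 : MvPolynomial (Fin 2) A) f * aeval (MvPolynomial.X 1 : MvPolynomial (Fin 2) A) f

theorem isChar_one : IsChar (1 : A[X]) := by simp [IsChar]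

theorem IsChar.mul {f g : A[X]} (hf : IsChar f) (hg : IsChar g) : IsChar (f * g) := by
  refine ⟨by simp [hf.1, hg.1], ?_⟩
  simp only [map_mul, hf.2, hg.2]
  ring

/-- The truncated exponential `exp_p(a X^q)`. -/
noncomputable def tExp (p : ℕ) (a : A) (q : ℕ) : A[X] :=
  ∑ j ∈ range p, C (Ring.inverse (j.factorial : A) * a ^ j) * X ^ (j * q)

theorem inv_choose {i d : ℕ} (hd : d < p) (hid : i ≤ d) :
    Ring.inverse (d.factorial : A) * (d.choose i : A) =
      Ring.inverse (i.factorial : A) * Ring.inverse ((d - i).factorial : A) := by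
  have hu : ∀ {j : ℕ}, j < p → IsUnit (j.factorial : A) := fun h => isUnit_fact h
  refine (hu hd).mul_left_cancel ?_
  rw [← mul_assoc, Ring.mul_inverse_cancel _ (hu hd), one_mul, ← Nat.choose_mul_factorial_mul_factorial hid]
  push_cast
  calc (d.choose i : A) = (d.choose i : A) * ((i.factorial : A) * Ring.inverse (i.factorial : A)) *
        (((d - i).factorial : A) * Ring.inverse ((d - i).factorial : A)) := by
        rw [Ring.mul_inverse_cancel _ (hu (by omega)), Ring.mul_inverse_cancel _ (hu (by omega)), mul_one, mul_one]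
    _ = _ := by ring

theorem exp_add {B : Type*} [CommRing B] [Algebra A B] (a : A) (ha : a ^ p = 0) (u v : B) :
    ∑ d ∈ range p, algebraMap A B (Ring.inverse (d.factorial : A) * a ^ d) * (u + v) ^ d =
      (∑ i ∈ range p, algebraMap A B (Ring.inverse (i.factorial : A) * a ^ i) * u ^ i) *
        ∑ j ∈ range p, algebraMap A B (Ring.inverse (j.factorial : A) * a ^ j) * v ^ j := by
  set F : ℕ → ℕ → B := fun i j => algebraMap A B (Ring.inverse (i.factorial : A) * a ^ i) * u ^ i *
    (algebraMap A B (Ring.inverse (j.factorial : A) * a ^ j) * v ^ j)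
  have hR : (∑ i ∈ range p, algebraMap A B (Ring.inverse (i.factorial : A) * a ^ i) * u ^ i) *
      (∑ j ∈ range p, algebraMap A B (Ring.inverse (j.factorial : A) * a ^ j) * v ^ j) =
      ∑ i ∈ range p, ∑ j ∈ range (p - i), F i j := by
    rw [sum_mul_sum]
    refine sum_congr rfl fun i hi => (sum_subset (range_mono (Nat.sub_le p i)) fun j hj hj' => ?_).symm
    simp only [mem_range, not_lt] at hj hj'
    obtain ⟨r, hr⟩ : ∃ r, i + j = p + r := ⟨i + j - p, by omega⟩
    have : a ^ i * a ^ j = 0 := by rw [← pow_add, hr, pow_add, ha, zero_mul]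
    calc F i j = algebraMap A B (Ring.inverse (i.factorial : A) * Ring.inverse (j.factorial : A) * (a ^ i * a ^ j))
          * (u ^ i * v ^ j) := by simp only [F, map_mul]; ring
      _ = 0 := by simp [this]
  rw [hR, ← sum_range_diag_flip]
  refine sum_congr rfl fun d hd => ?_
  rw [mem_range] at hd
  rw [add_pow, mul_sum]
  refine sum_congr rfl fun i hi => ?_
  rw [mem_range, Nat.lt_succ_iff] at hi
  simp only [F]
  have h := congrArg (algebraMap A B) (inv_choose (A := A) hd hi)
  rw [map_mul, map_mul, map_natCast] at h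
  rw [map_mul, map_mul, map_mul]
  have e : (algebraMap A B) (a ^ d) = algebraMap A B (a ^ i) * algebraMap A B (a ^ (d - i)) := by
    rw [← map_mul, ← pow_add, Nat.add_sub_cancel' hi]
  rw [e]
  linear_combination (algebraMap A B (a ^ i) * algebraMap A B (a ^ (d - i)) * u ^ i * v ^ (d - i)) * h

theorem tExp_isChar (a : A) (ha : a ^ p = 0) (n : ℕ) : IsChar (tExp p a (p ^ n)) := by
  have hq : p ^ n ≠ 0 := pow_ne_zero _ hp.out.ne_zero
  constructor
  · rw [tExp, eval_finsetSum, sum_eq_single 0]
    · simp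
    · intro j _ hj
      simp [zero_pow (Nat.mul_ne_zero hj hq)]
    · intro h; simp [hp.out.pos] at h
  · have : CharP (MvPolynomial (Fin 2) A) p := inferInstance
    simp only [tExp, map_sum, map_mul, aeval_C, map_pow, aeval_X]
    simp only [← map_pow, ← map_mul, mul_comm _ (p ^ n), pow_mul]
    rw [add_pow_char_pow]
    exact exp_add a ha _ _

theorem prod_isChar (a : ℕ → A) (ha : ∀ n, a n ^ p = 0) (N : ℕ) :
    IsChar (∏ n ∈ range N, tExp p (a n) (p ^ n)) := by
  induction N with
  | zero => simpa using isChar_one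
  | succ N ih => rw [prod_range_succ]; exact ih.mul (tExp_isChar _ (ha N) N)

theorem exp_eq_zero_add_one (e : Fin 2 →₀ ℕ) : e = Finsupp.single 0 (e 0) + Finsupp.single 1 (e 1) := by
  ext x; fin_cases x <;> simp

theorem coeff_add_pow (d : ℕ) (i j : ℕ) :
    MvPolynomial.coeff (Finsupp.single 0 i + Finsupp.single 1 j)
      ((MvPolynomial.X 0 + MvPolynomial.X 1 : MvPolynomial (Fin 2) A) ^ d) =
      if d = i + j then (d.choose i : A) else 0 := by
  classical
  rw [add_pow, MvPolynomial.coeff_sum]
  have key : ∀ a : ℕ, MvPolynomial.coeff (Finsupp.single 0 i + Finsupp.single 1 j)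
      ((MvPolynomial.X 0 : MvPolynomial (Fin 2) A) ^ a * MvPolynomial.X 1 ^ (d - a) * (d.choose a : MvPolynomial (Fin 2) A)) =
      if a = i ∧ d - a = j then (d.choose a : A) else 0 := fun a => by
    rw [← map_natCast (MvPolynomial.C (σ := Fin 2) (R := A)), mul_comm, MvPolynomial.coeff_C_mul,
      MvPolynomial.X_pow_eq_monomial, MvPolynomial.X_pow_eq_monomial, MvPolynomial.monomial_mul, one_mul,
      MvPolynomial.coeff_monomial, mul_ite, mul_one, mul_zero]
    refine if_congr ⟨fun h => ?_, fun ⟨e1, e2⟩ => by subst e1; rw [e2]⟩ rfl rfl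
    exact ⟨by simpa using DFunLike.congr_fun h 0, by simpa using DFunLike.congr_fun h 1⟩
  simp only [key]
  rcases em (d = i + j) with rfl | h
  · rw [sum_eq_single i]
    · simp
    · intro b _ hb; simp [hb]
    · intro hb; exact absurd (mem_range.2 (by omega)) hb
  · rw [if_neg h]
    refine sum_eq_zero fun a ha => if_neg ?_
    rw [mem_range] at ha
    omega

theorem coeff_aeval_add (f : A[X]) (i j : ℕ) :
    MvPolynomial.coeff (Finsupp.single 0 i + Finsupp.single 1 j)
      (aeval (MvPolynomial.X 0 + MvPolynomial.X 1 : MvPolynomial (Fin 2) A) f) =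
      ((i + j).choose i : A) * f.coeff (i + j) := by
  rw [aeval_eq_sum_range' (n := max (f.natDegree + 1) (i + j + 1)) (by omega), MvPolynomial.coeff_sum,
    sum_eq_single (i + j)]
  · rw [MvPolynomial.coeff_smul, coeff_add_pow, if_pos rfl, smul_eq_mul, mul_comm]
  · intro d _ hd; rw [MvPolynomial.coeff_smul, coeff_add_pow, if_neg hd, smul_zero]
  · intro h; exact absurd (mem_range.2 (by omega)) h

theorem coeff_aeval_mul (f : A[X]) (i j : ℕ) :
    MvPolynomial.coeff (Finsupp.single 0 i + Finsupp.single 1 j)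
      (aeval (MvPolynomial.X 0 : MvPolynomial (Fin 2) A) f * aeval (MvPolynomial.X 1 : MvPolynomial (Fin 2) A) f) =
      f.coeff i * f.coeff j := by
  classical
  rw [aeval_eq_sum_range' (n := max (f.natDegree + 1) (i + j + 1)) (by omega),
    aeval_eq_sum_range' (n := max (f.natDegree + 1) (i + j + 1)) (by omega), sum_mul_sum, MvPolynomial.coeff_sum]
  simp only [MvPolynomial.coeff_sum, smul_mul_smul_comm, MvPolynomial.coeff_smul, MvPolynomial.X_pow_eq_monomial,
    MvPolynomial.monomial_mul, one_mul, MvPolynomial.coeff_monomial, smul_eq_mul, mul_ite, mul_one, mul_zero]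
  rw [sum_eq_single i, sum_eq_single j]
  · simp
  · intro b _ hb
    rw [if_neg]
    intro h; exact hb (by simpa using DFunLike.congr_fun h 1)
  · intro h; exact absurd (mem_range.2 (by omega)) h
  · intro b _ hb
    refine sum_eq_zero fun b' _ => if_neg ?_
    intro h; exact hb (by simpa using DFunLike.congr_fun h 0)
  · intro h; exact absurd (mem_range.2 (by omega)) h

theorem IsChar.coeff_rel {f : A[X]} (hf : IsChar f) (i j : ℕ) :
    f.coeff i * f.coeff j = ((i + j).choose i : A) * f.coeff (i + j) := by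
  rw [← coeff_aeval_mul, ← hf.2, coeff_aeval_add]

/-- Coefficient sequences of characters of `α_(p^m)`. -/
def CharRel (p : ℕ) (c : ℕ → A) (m : ℕ) : Prop :=
  c 0 = 1 ∧ ∀ i j, i < p ^ m → j < p ^ m →
    c i * c j = if i + j < p ^ m then ((i + j).choose i : A) * c (i + j) else 0

theorem sum_range_block {M : Type*} [AddCommMonoid M] (g : ℕ → M) (a q : ℕ) :
    ∑ i ∈ range (a * q), g i = ∑ j ∈ range a, ∑ r ∈ range q, g (j * q + r) := by
  induction a with
  | zero => simp
  | succ a ih => rw [Nat.succ_mul, sum_range_add, sum_range_succ, ih]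

theorem pow_coeff (c : ℕ → A) (m : ℕ) (h : CharRel p c m) {n : ℕ} (hn : n < m) :
    c (p ^ n) ^ p = 0 ∧ ∀ j < p, c (p ^ n) ^ j = (j.factorial : A) * c (j * p ^ n) := by
  obtain ⟨h0, hr⟩ := h
  have h2 := hp.out.two_le
  have hq : 0 < p ^ n := pow_pos hp.out.pos _
  have hle : p ^ (n + 1) ≤ p ^ m := Nat.pow_le_pow_right hp.out.pos hn
  have hlt : ∀ j < p, j * p ^ n < p ^ m := fun j hj =>
    lt_of_lt_of_le ((Nat.mul_lt_mul_of_pos_right hj hq).trans_eq (pow_succ' p n).symm) hle
  have h1 : p ^ n < p ^ m := by simpa using hlt 1 (by omega)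
  have hch : ∀ j, (((p ^ n + j * p ^ n).choose (p ^ n) : ℕ) : A) = ((j + 1 : ℕ) : A) := fun j => by
    have := cast_choose_block (A := A) (p := p) n (j + 1) 1 hq hq
    rwa [add_zero, add_zero, one_mul, Nat.succ_mul, add_comm (j * p ^ n), Nat.choose_one_right,
      Nat.choose_zero_right, Nat.cast_one, mul_one] at this
  have hpow : ∀ j < p, c (p ^ n) ^ j = (j.factorial : A) * c (j * p ^ n) := by
    intro j
    induction j with
    | zero => intro _; simp [h0]
    | succ j ih =>
      intro hj
      have hsum : p ^ n + j * p ^ n < p ^ m := by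
        rw [add_comm, ← Nat.succ_mul]; exact hlt _ hj
      rw [pow_succ', ih (by omega), mul_left_comm, hr _ _ h1 (hlt j (by omega)), if_pos hsum, hch,
        show p ^ n + j * p ^ n = (j + 1) * p ^ n by ring, Nat.factorial_succ]
      push_cast; ring
  refine ⟨?_, hpow⟩
  obtain ⟨k, hk⟩ : ∃ k, p = k + 1 := ⟨p - 1, by omega⟩
  rw [show c (p ^ n) ^ p = c (p ^ n) ^ (k + 1) by rw [← hk], pow_succ', hpow k (by omega), mul_left_comm,
    hr _ _ h1 (hlt k (by omega))]
  split_ifs
  · rw [hch, ← hk, CharP.cast_eq_zero A p]; simp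
  · simp

theorem trunc_eq_prod (c : ℕ → A) (m : ℕ) (h : CharRel p c m) (n : ℕ) (hn : n ≤ m) :
    ∑ i ∈ range (p ^ n), C (c i) * X ^ i = ∏ k ∈ range n, tExp p (c (p ^ k)) (p ^ k) := by
  induction n with
  | zero => simp [h.1]
  | succ n ih =>
    have hnm : n < m := hn
    have hq : 0 < p ^ n := pow_pos hp.out.pos _
    rw [prod_range_succ, ← ih (by omega), pow_succ', sum_range_block, tExp, sum_mul_sum, sum_comm (s := range (p ^ n))]
    refine sum_congr rfl fun j hj => sum_congr rfl fun r hr => ?_
    rw [mem_range] at hj hr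
    have hbound : j * p ^ n + r < p ^ m := by
      have : j * p ^ n + r < p ^ (n + 1) := by
        rw [pow_succ']
        have := Nat.mul_le_mul_right (p ^ n) (Nat.succ_le_of_lt hj)
        rw [Nat.succ_mul] at this
        omega
      exact lt_of_lt_of_le this (Nat.pow_le_pow_right hp.out.pos hnm)
    have hc : c r * c (j * p ^ n) = c (j * p ^ n + r) := by
      rw [h.2 _ _ (by omega) (by omega), add_comm r, if_pos hbound]
      have := cast_choose_block (A := A) (p := p) n j 0 hr hr
      rw [zero_mul, zero_add] at this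
      rw [this, Nat.choose_zero_right, Nat.choose_self]
      simp
    have hinv : Ring.inverse (j.factorial : A) * ((j.factorial : A) * c (j * p ^ n)) = c (j * p ^ n) := by
      rw [← mul_assoc, Ring.inverse_mul_cancel _ (isUnit_fact (A := A) hj), one_mul]
    rw [(pow_coeff c m h hnm).2 j hj, hinv, ← hc, pow_add, C_mul]
    ring

theorem exists_prod (c : ℕ → A) (m : ℕ) (h : CharRel p c m) :
    ∃ a : ℕ → A, (∀ i, a i ^ p = 0) ∧
      ∑ i ∈ range (p ^ m), C (c i) * X ^ i = ∏ k ∈ range m, tExp p (a k) (p ^ k) := by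
  refine ⟨fun k => if k < m then c (p ^ k) else 0, fun i => ?_, ?_⟩
  · dsimp only
    split_ifs with hi
    · exact (pow_coeff c m h hi).1
    · exact zero_pow hp.out.ne_zero
  · rw [trunc_eq_prod c m h m le_rfl]
    exact prod_congr rfl fun k hk => by simp only [if_pos (mem_range.1 hk)]

theorem char_iff (f : A[X]) :
    IsChar f ↔ ∃ (N : ℕ) (a : ℕ → A), (∀ n, a n ^ p = 0) ∧ f = ∏ n ∈ range N, tExp p (a n) (p ^ n) := by
  constructor
  · intro hf
    have hlt : f.natDegree < p ^ f.natDegree := Nat.lt_pow_self hp.out.one_lt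
    obtain ⟨a, ha, he⟩ := exists_prod f.coeff f.natDegree ⟨by rw [coeff_zero_eq_eval_zero]; exact hf.1, fun i j _ _ => by
      rw [hf.coeff_rel]
      split_ifs with h
      · rfl
      · rw [coeff_eq_zero_of_natDegree_lt (by omega), mul_zero]⟩
    exact ⟨_, a, ha, by rw [← he]; exact f.as_sum_range_C_mul_X_pow' hlt⟩
  · rintro ⟨N, a, ha, rfl⟩
    exact prod_isChar a ha N

theorem alpha_char (n : ℕ) (f : A[X]) (hdeg : f.natDegree < p ^ n) (h0 : f.eval 0 = 1)
    (hmul : Ideal.Quotient.mk
        (Ideal.span {(MvPolynomial.X 0 ^ p ^ n : MvPolynomial (Fin 2) A), MvPolynomial.X 1 ^ p ^ n})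
        (aeval (MvPolynomial.X 0 + MvPolynomial.X 1 : MvPolynomial (Fin 2) A) f) =
      Ideal.Quotient.mk
        (Ideal.span {(MvPolynomial.X 0 ^ p ^ n : MvPolynomial (Fin 2) A), MvPolynomial.X 1 ^ p ^ n})
        (aeval (MvPolynomial.X 0 : MvPolynomial (Fin 2) A) f * aeval (MvPolynomial.X 1 : MvPolynomial (Fin 2) A) f)) :
    ∃ a : ℕ → A, (∀ i, a i ^ p = 0) ∧ f = ∏ i ∈ range n, tExp p (a i) (p ^ i) := by
  classical
  obtain ⟨r, s, hrs⟩ := Ideal.mem_span_pair.1 (Ideal.Quotient.eq.1 hmul)
  have hrel : ∀ i j, i < p ^ n → j < p ^ n → f.coeff i * f.coeff j = ((i + j).choose i : A) * f.coeff (i + j) := by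
    intro i j hi hj
    have h := congrArg (MvPolynomial.coeff (Finsupp.single 0 i + Finsupp.single 1 j)) hrs
    rw [MvPolynomial.coeff_add, MvPolynomial.coeff_sub, coeff_aeval_mul, coeff_aeval_add,
      MvPolynomial.X_pow_eq_monomial, MvPolynomial.X_pow_eq_monomial, MvPolynomial.coeff_mul_monomial',
      MvPolynomial.coeff_mul_monomial'] at h
    have n0 : ¬ Finsupp.single (0 : Fin 2) (p ^ n) ≤ Finsupp.single 0 i + Finsupp.single 1 j := fun hle => by
      have := hle 0; simp at this; omega
    have n1 : ¬ Finsupp.single (1 : Fin 2) (p ^ n) ≤ Finsupp.single 0 i + Finsupp.single 1 j := fun hle => by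
      have := hle 1; simp at this; omega
    rw [if_neg n0, if_neg n1, add_zero] at h
    exact (sub_eq_zero.1 h.symm).symm
  obtain ⟨a, ha, he⟩ := exists_prod f.coeff n ⟨by rw [coeff_zero_eq_eval_zero]; exact h0, fun i j hi hj => by
    rw [hrel i j hi hj]
    split_ifs with h
    · rfl
    · rw [coeff_eq_zero_of_natDegree_lt (by omega), mul_zero]⟩
  exact ⟨a, ha, by rw [← he]; exact f.as_sum_range_C_mul_X_pow' hdeg⟩

theorem coeff_subst_add (χ : PowerSeries A) (i j : ℕ) :
    MvPowerSeries.coeff (Finsupp.single 0 i + Finsupp.single 1 j)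
      (PowerSeries.subst (MvPowerSeries.X 0 + MvPowerSeries.X 1 : MvPowerSeries (Fin 2) A) χ) =
      ((i + j).choose i : A) * PowerSeries.coeff (i + j) χ := by
  have hh : PowerSeries.HasSubst (MvPowerSeries.X 0 + MvPowerSeries.X 1 : MvPowerSeries (Fin 2) A) :=
    PowerSeries.HasSubst.of_constantCoeff_zero (by simp)
  have key : ∀ d : ℕ, MvPowerSeries.coeff (Finsupp.single 0 i + Finsupp.single 1 j)
      ((MvPowerSeries.X 0 + MvPowerSeries.X 1 : MvPowerSeries (Fin 2) A) ^ d) =
      if d = i + j then (d.choose i : A) else 0 := fun d => by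
    rw [← coeff_add_pow d i j, ← MvPolynomial.coeff_coe]
    simp
  rw [PowerSeries.coeff_subst hh, finsum_eq_single _ (i + j) fun d hd => by rw [key, if_neg hd, smul_zero],
    key, if_pos rfl, smul_eq_mul, mul_comm]

theorem coeff_subst_mul (χ : PowerSeries A) (i j : ℕ) :
    MvPowerSeries.coeff (Finsupp.single 0 i + Finsupp.single 1 j)
      (PowerSeries.subst (MvPowerSeries.X 0 : MvPowerSeries (Fin 2) A) χ *
        PowerSeries.subst (MvPowerSeries.X 1 : MvPowerSeries (Fin 2) A) χ) =
      PowerSeries.coeff i χ * PowerSeries.coeff j χ := by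
  classical
  have hh : ∀ s : Fin 2, PowerSeries.HasSubst (MvPowerSeries.X s : MvPowerSeries (Fin 2) A) := fun s =>
    PowerSeries.HasSubst.of_constantCoeff_zero (by simp)
  have key : ∀ (s : Fin 2) (e : Fin 2 →₀ ℕ),
      MvPowerSeries.coeff e (PowerSeries.subst (MvPowerSeries.X s : MvPowerSeries (Fin 2) A) χ) =
        if e = Finsupp.single s (e s) then PowerSeries.coeff (e s) χ else 0 := fun s e => by
    rw [PowerSeries.coeff_subst (hh s), finsum_eq_single _ (e s)]
    · rw [MvPowerSeries.coeff_X_pow]; split_ifs <;> simp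
    · intro d hd
      rw [MvPowerSeries.coeff_X_pow, if_neg, smul_zero]
      intro he; exact hd (by rw [he]; simp)
  rw [MvPowerSeries.coeff_mul, sum_eq_single (Finsupp.single 0 i, Finsupp.single 1 j)]
  · simp [key]
  · rintro ⟨e, e'⟩ he hne
    rw [HasAntidiagonal.mem_antidiagonal] at he
    rw [key, key]
    split_ifs with h1 h2
    · exfalso
      simp only at he h1 h2
      refine hne ?_
      have a0 := DFunLike.congr_fun he 0
      have a1 := DFunLike.congr_fun he 1
      have b := DFunLike.congr_fun h1 1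
      have b' := DFunLike.congr_fun h2 0
      simp at a0 a1 b b'
      have q0 : e 0 = i := by omega
      have q1 : e' 1 = j := by omega
      rw [h1, h2, q0, q1]
    all_goals simp
  · intro h; simp [HasAntidiagonal.mem_antidiagonal] at h

theorem series_iff (χ : PowerSeries A) :
    (PowerSeries.constantCoeff χ = 1 ∧
      PowerSeries.subst (MvPowerSeries.X 0 + MvPowerSeries.X 1 : MvPowerSeries (Fin 2) A) χ =
        PowerSeries.subst (MvPowerSeries.X 0 : MvPowerSeries (Fin 2) A) χ *
          PowerSeries.subst (MvPowerSeries.X 1 : MvPowerSeries (Fin 2) A) χ) ↔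
      ∃ a : ℕ → A, (∀ n, a n ^ p = 0) ∧ ∀ m : ℕ,
        PowerSeries.trunc (p ^ m) χ = ∏ n ∈ range m, tExp p (a n) (p ^ n) := by
  have htr : ∀ M, PowerSeries.trunc M χ = ∑ i ∈ range M, C (PowerSeries.coeff i χ) * X ^ i := fun M => by
    ext k
    simp [PowerSeries.coeff_trunc]
  constructor
  · rintro ⟨h0, heq⟩
    have hrel : ∀ i j, PowerSeries.coeff i χ * PowerSeries.coeff j χ =
        ((i + j).choose i : A) * PowerSeries.coeff (i + j) χ := fun i j => by
      rw [← coeff_subst_mul, ← heq, coeff_subst_add]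
    -- relations on the truncations
    have hc : ∀ m, CharRel p (fun i => if i < p ^ m then PowerSeries.coeff i χ else 0) m := fun m => by
      refine ⟨by simp [hp.out.pos, h0], fun i j hi hj => ?_⟩
      dsimp only
      rw [if_pos hi, if_pos hj, hrel]
      split_ifs with h
      · rfl
      · -- the binomial coefficient vanishes
        have : ((i + j).choose i : A) = 0 := by
          obtain ⟨r, hr⟩ : ∃ r, i + j = 1 * p ^ m + r := ⟨i + j - p ^ m, by omega⟩
          have := cast_choose_block (A := A) (p := p) m 1 0 (r := r) (by omega) hi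
          rw [zero_mul, zero_add] at this
          rw [hr, this, Nat.choose_zero_right, Nat.choose_eq_zero_of_lt (by omega : r < i)]
          simp
        rw [this, zero_mul]
    refine ⟨fun n => PowerSeries.coeff (p ^ n) χ, fun n => ?_, fun m => ?_⟩
    · have := (pow_coeff _ (n + 1) (hc (n + 1)) (Nat.lt_succ_self n)).1
      rwa [if_pos (Nat.pow_lt_pow_right hp.out.one_lt (Nat.lt_succ_self n))] at this
    · rw [htr]
      calc ∑ i ∈ range (p ^ m), C (PowerSeries.coeff i χ) * X ^ i
          = ∑ i ∈ range (p ^ m), C (if i < p ^ m then PowerSeries.coeff i χ else 0) * X ^ i :=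
            sum_congr rfl fun i hi => by rw [if_pos (mem_range.1 hi)]
        _ = _ := by
            rw [trunc_eq_prod _ m (hc m) m le_rfl]
            exact prod_congr rfl fun k hk => by rw [if_pos (Nat.pow_lt_pow_right hp.out.one_lt (mem_range.1 hk))]
  · rintro ⟨a, ha, hm⟩
    have h00 : PowerSeries.coeff 0 χ = 1 := by
      have := congrArg (fun q : A[X] => q.coeff 0) (hm 0)
      simpa [htr] using this
    refine ⟨by simpa using h00, ?_⟩
    ext e
    rw [exp_eq_zero_add_one e, coeff_subst_add, coeff_subst_mul]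
    have hlt : e 0 + e 1 < p ^ (e 0 + e 1) := Nat.lt_pow_self hp.out.one_lt
    have hch : IsChar (PowerSeries.trunc (p ^ (e 0 + e 1)) χ) := by rw [hm]; exact prod_isChar a ha _
    have := hch.coeff_rel (e 0) (e 1)
    rw [PowerSeries.coeff_trunc, PowerSeries.coeff_trunc, PowerSeries.coeff_trunc, if_pos (by omega),
      if_pos (by omega), if_pos hlt] at this
    exact this.symm

end Groth.Agent.GaD36
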